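import Mathlib
import Groth.Agent.Lib.Helper8.FlatMod5
import Groth.Agent.Lib.Helper8.HensFC1

/-!
# Associated primes along a flat homomorphism of Noetherian rings (helper5)
(a half of Matsumura 23.2, deduced from helper8's depth formula)
-/

set_option autoImplicit false
universe u
open IsLocalRing TensorProduct

namespace Groth.Agent.Lib.Helper5.TensorAss

open Groth.Agent.Helper8.FlatMod Groth.Agent.Helper8.Depth LocCoh

/-- local version: for a flat local homomorphism `R → S` of Noetherian local rings, if the maximal
ideal of `S` is associated to `S`, then the maximal ideal of `R` is associated to `R` and the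
maximal ideal of `S` is associated to the fibre `S / m_R S`. -/
theorem local_ass {R S : Type u} [CommRing R] [CommRing S] [IsLocalRing R] [IsLocalRing S]
    [IsNoetherianRing R] [IsNoetherianRing S] [Algebra R S] [IsLocalHom (algebraMap R S)]
    [Module.Flat R S] (h : maximalIdeal S ∈ associatedPrimes S S) :
    maximalIdeal R ∈ associatedPrimes R R ∧ maximalIdeal S ∈ associatedPrimes S (Fib R S S) := by
  have h0 : depth S S = 0 := (depth_eq_zero_iff S S).2 h
  have h1 := depth_formula (R := R) (S := S) S R
  have h2 : depth S (S ⊗[R] R) = depth S S := by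
    unfold LocCoh.depth
    exact idealDepth_congr (TensorProduct.AlgebraTensorModule.rid R S S)
  rw [h2, h0] at h1
  have h3 := (add_eq_zero.1 h1.symm)
  exact ⟨(depth_eq_zero_iff R R).1 h3.1, (depth_eq_zero_iff S (Fib R S S)).1 h3.2⟩

section glob

variable {A B : Type u} [CommRing A] [CommRing B] [Algebra A B] [Module.Flat A B]
  [IsNoetherianRing A] [IsNoetherianRing B]

/-- an associated prime of `B` contracts to an associated prime `p` of `A` and is associated
to `B / pB` -/
theorem under_mem_associatedPrimes (P : Ideal B) (hP : P ∈ associatedPrimes B B) :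
    P.under A ∈ associatedPrimes A A ∧
      P ∈ associatedPrimes B (B ⧸ (P.under A).map (algebraMap A B)) := by
  haveI hPp : P.IsPrime := hP.isPrime
  obtain ⟨p, hp⟩ : ∃ p : Ideal A, p = P.under A := ⟨_, rfl⟩
  rw [← hp]
  haveI : p.IsPrime := hp ▸ inferInstance
  haveI : P.LiesOver p := ⟨hp⟩
  letI alg := Localization.AtPrime.algebraOfLiesOver p P
  haveI : IsLocalHom (algebraMap (Localization.AtPrime p) (Localization.AtPrime P)) := by
    rw [RingHom.algebraMap_toAlgebra]
    exact Localization.isLocalHom_localRingHom p P (algebraMap A B) Ideal.LiesOver.over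
  have hcP : Ideal.comap (algebraMap B (Localization.AtPrime P))
      (maximalIdeal (Localization.AtPrime P)) = P := Localization.AtPrime.under_maximalIdeal
  have hcp : Ideal.comap (algebraMap A (Localization.AtPrime p))
      (maximalIdeal (Localization.AtPrime p)) = p := Localization.AtPrime.under_maximalIdeal
  have hS : maximalIdeal (Localization.AtPrime P) ∈
      associatedPrimes (Localization.AtPrime P) (Localization.AtPrime P) := by
    rw [← Module.associatedPrimes.preimage_comap_associatedPrimes_eq_associatedPrimes_of_isLocalizedModule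
      P.primeCompl (Localization.AtPrime P) (Algebra.linearMap B (Localization.AtPrime P)),
      Set.mem_preimage, hcP]
    exact hP
  obtain ⟨hR, hF⟩ := local_ass (R := Localization.AtPrime p) (S := Localization.AtPrime P) hS
  constructor
  · rw [← Module.associatedPrimes.preimage_comap_associatedPrimes_eq_associatedPrimes_of_isLocalizedModule
      p.primeCompl (Localization.AtPrime p) (Algebra.linearMap A (Localization.AtPrime p)),
      Set.mem_preimage, hcp] at hR
    exact hR
  · obtain ⟨I, hI⟩ : ∃ I : Ideal B, I = p.map (algebraMap A B) := ⟨_, rfl⟩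
    rw [← hI]
    have hLJ : Submodule.localized' (Localization.AtPrime P) P.primeCompl
        (Algebra.linearMap B (Localization.AtPrime P)) I =
        (maximalIdeal (Localization.AtPrime p)).map
          (algebraMap (Localization.AtPrime p) (Localization.AtPrime P)) •
          (⊤ : Submodule (Localization.AtPrime P) (Localization.AtPrime P)) := by
      rw [Ideal.localized'_eq_map, hI, Ideal.map_map, ← Localization.AtPrime.map_eq_maximalIdeal,
        Ideal.map_map, smul_eq_mul, Ideal.mul_top,
        ← IsScalarTower.algebraMap_eq, ← IsScalarTower.algebraMap_eq]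
    have hF' : maximalIdeal (Localization.AtPrime P) ∈ associatedPrimes (Localization.AtPrime P)
        (Localization.AtPrime P ⧸ Submodule.localized' (Localization.AtPrime P) P.primeCompl
          (Algebra.linearMap B (Localization.AtPrime P)) I) :=
      (LinearEquiv.isAssociatedPrime_iff (Submodule.quotEquivOfEq _ _ hLJ)).2 hF
    rw [← Module.associatedPrimes.preimage_comap_associatedPrimes_eq_associatedPrimes_of_isLocalizedModule
      P.primeCompl (Localization.AtPrime P)
      (Submodule.toLocalizedQuotient' (Localization.AtPrime P) P.primeCompl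
        (Algebra.linearMap B (Localization.AtPrime P)) I),
      Set.mem_preimage, hcP] at hF'
    exact hF'

/-- an associated prime of `B / pB`, for `p ∈ Ass A`, is associated to `B` -/
theorem associatedPrimes_quot_subset (p : Ideal A) (hp : p ∈ associatedPrimes A A) :
    associatedPrimes B (B ⧸ p.map (algebraMap A B)) ⊆ associatedPrimes B B := by
  obtain ⟨_, f, hf⟩ := (isAssociatedPrime_iff_exists_injective_linearMap p A).mp hp
  let eP := Algebra.TensorProduct.quotIdealMapEquivTensorQuot B p
  let g : (B ⧸ p.map (algebraMap A B)) →ₗ[B] B :=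
    (TensorProduct.AlgebraTensorModule.rid A B B).toLinearMap ∘ₗ (f.baseChange B) ∘ₗ
      eP.toLinearMap
  have hb : Function.Injective (f.baseChange B) := by
    rw [LinearMap.baseChange_eq_ltensor]
    exact Module.Flat.lTensor_preserves_injective_linearMap f hf
  have hg : Function.Injective g :=
    (TensorProduct.AlgebraTensorModule.rid A B B).injective.comp (hb.comp eP.injective)
  exact associatedPrimes.subset_of_injective hg

omit [IsNoetherianRing A] [IsNoetherianRing B] [Module.Flat A B] in
theorem lTensor_lsmul_eq (p : Ideal A) (a : A) (z : B ⊗[A] (A ⧸ p)) :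
    (LinearMap.lTensor B (LinearMap.lsmul A (A ⧸ p) a)) z = a • z := by
  induction z using TensorProduct.induction_on with
  | zero => simp
  | tmul b x => simp [TensorProduct.tmul_smul]
  | add x y hx hy => rw [map_add, hx, hy, smul_add]

omit [IsNoetherianRing A] in
/-- an associated prime of `B / pB` lies over `p` -/
theorem under_eq_of_mem_associatedPrimes_quot (p : Ideal A) [p.IsPrime] (P : Ideal B)
    (hP : P ∈ associatedPrimes B (B ⧸ p.map (algebraMap A B))) : P.under A = p := by
  apply le_antisymm
  · intro a ha
    by_contra hap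
    obtain ⟨hPp, η, hη⟩ := (isAssociatedPrime_iff).1 hP
    have h1 : algebraMap A B a • η = 0 := by
      have h2 : algebraMap A B a ∈ P := ha
      rw [hη, Submodule.mem_colon_singleton, Submodule.mem_bot] at h2
      exact h2
    have hinj : Function.Injective (LinearMap.lsmul A (A ⧸ p) a) := by
      intro x y hxy
      obtain ⟨x, rfl⟩ := Ideal.Quotient.mk_surjective x
      obtain ⟨y, rfl⟩ := Ideal.Quotient.mk_surjective y
      have h3 : Ideal.Quotient.mk p (a * x) = Ideal.Quotient.mk p (a * y) := hxy
      rw [Ideal.Quotient.eq, ← mul_sub] at h3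
      rw [Ideal.Quotient.eq]
      exact (Ideal.IsPrime.mem_or_mem inferInstance h3).resolve_left hap
    have hinj' := Module.Flat.lTensor_preserves_injective_linearMap (M := B) _ hinj
    let eP := Algebra.TensorProduct.quotIdealMapEquivTensorQuot B p
    have h4 : a • eP η = 0 := by
      have h5 := congrArg eP h1
      rw [map_smul, map_zero, algebraMap_smul] at h5
      exact h5
    have h6 : eP η = 0 := by
      apply hinj'
      rw [lTensor_lsmul_eq, h4, map_zero]
    have h7 : η = 0 := by
      have := congrArg eP.symm h6
      rwa [AlgEquiv.symm_apply_apply, map_zero] at this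
    apply hPp.ne_top
    rw [hη, h7, Ideal.eq_top_iff_one, Submodule.mem_colon_singleton, smul_zero]
    exact Submodule.zero_mem _
  · intro a ha
    exact Groth.Agent.Helper8.HensFC.le_of_mem_associatedPrimes_quotient hP
      (Ideal.mem_map_of_mem _ ha)

/-- **no embedded primes ascends and descends** along a flat homomorphism of Noetherian rings
whose "fibres" `B / pB` are nonzero and have pairwise incomparable associated primes -/
theorem noEmb_iff
    (hinc : ∀ p : Ideal A, p.IsPrime → ∀ P Q : Ideal B,
      P ∈ associatedPrimes B (B ⧸ p.map (algebraMap A B)) →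
      Q ∈ associatedPrimes B (B ⧸ p.map (algebraMap A B)) → P ≤ Q → P = Q)
    (hff : ∀ p : Ideal A, p.IsPrime → p.map (algebraMap A B) ≠ ⊤) :
    (∀ p q : Ideal A, p ∈ associatedPrimes A A → q ∈ associatedPrimes A A → p ≤ q → p = q) ↔
    (∀ P Q : Ideal B, P ∈ associatedPrimes B B → Q ∈ associatedPrimes B B → P ≤ Q → P = Q) := by
  constructor
  · intro h P Q hP hQ hPQ
    obtain ⟨hp, hP'⟩ := under_mem_associatedPrimes (A := A) P hP
    obtain ⟨hq, hQ'⟩ := under_mem_associatedPrimes (A := A) Q hQ
    have hpq : P.under A = Q.under A := h _ _ hp hq (Ideal.comap_mono hPQ)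
    rw [← hpq] at hQ'
    exact hinc _ hp.isPrime P Q hP' hQ' hPQ
  · intro h p q hp hq hpq
    haveI hpp : p.IsPrime := hp.isPrime
    haveI hqp : q.IsPrime := hq.isPrime
    haveI : Nontrivial (B ⧸ q.map (algebraMap A B)) := Ideal.Quotient.nontrivial_iff.2 (hff q hqp)
    obtain ⟨Q, hQ⟩ := associatedPrimes.nonempty B (B ⧸ q.map (algebraMap A B))
    haveI hQp : Q.IsPrime := hQ.isPrime
    have hQu : Q.under A = q := under_eq_of_mem_associatedPrimes_quot q Q hQ
    haveI : Q.LiesOver q := ⟨hQu.symm⟩
    obtain ⟨P₀, hP₀Q, hP₀p, hP₀⟩ := Ideal.exists_ideal_le_liesOver_of_le (p := p) (q := q) Q hpq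
    have hle : p.map (algebraMap A B) ≤ P₀ := by
      rw [Ideal.map_le_iff_le_comap]
      exact hP₀.over.le
    obtain ⟨P, hPmin, hPP₀⟩ := Ideal.exists_minimalPrimes_le hle
    have hPass : P ∈ associatedPrimes B (B ⧸ p.map (algebraMap A B)) := by
      apply Module.associatedPrimes.minimalPrimes_annihilator_subset_associatedPrimes B
      rwa [Ideal.annihilator_quotient]
    have hPu : P.under A = p := under_eq_of_mem_associatedPrimes_quot p P hPass
    have hPQ : P = Q := h P Q (associatedPrimes_quot_subset p hp hPass)
      (associatedPrimes_quot_subset q hq hQ) (hPP₀.trans hP₀Q)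
    rw [← hPu, ← hQu, hPQ]

end glob

end Groth.Agent.Lib.Helper5.TensorAss
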